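import Cfsg.Agent.PComp40.OddB.Linear
import Cfsg.Agent.PComp40.Group
import Cfsg.Agent.Lib.BlocksCore.WeakOrth

/-!
# S3297, one class of central elements of order `p`: the character count

`false_of_facts` is the count itself, given the sum over a section, the linear family and the
behaviour of products of two conjugates.
-/

set_option autoImplicit false
set_option linter.unusedSectionVars false

namespace Cfsg.Agent.PComp40.OddB

open scoped ComplexConjugate
open Cfsg.Agent.CharCore BlocksDefect BlocksCore.CyclicPrincipal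

universe u

variable {G : Type u} [Group G] {p : ℕ} [hpf : Fact p.Prime]
  {P : Sylow p G} {L : Type u} [Group L] [Fintype L] (F : Frame P L)

/-- A frame in which some element of odd `p`-power order is conjugate to its inverse has even
index. -/
theorem even_index (hp : p ≠ 2) {k : F.K} (hk : k ≠ 1) (hc : IsConj (k : L) (k : L)⁻¹) :
    Even F.K.index := by
  obtain ⟨n, hn⟩ := isConj_iff.mp hc
  have hkL : (k : L) ≠ 1 := fun h => hk (Subtype.ext h)
  have hodd : ∀ x : F.K, Odd (orderOf (x : L)) := fun x => by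
    obtain ⟨j, hj⟩ := IsPGroup.iff_orderOf.1 P.2 (F.iso x)
    rw [Subgroup.orderOf_coe, ← MulEquiv.orderOf_eq F.iso x, hj]
    exact (hpf.out.odd_of_ne_two hp).pow
  have hsq : Commute (n ^ 2) (k : L) := by
    have h2 : n * (k : L)⁻¹ * n⁻¹ = k := by
      calc n * (k : L)⁻¹ * n⁻¹ = (n * (k : L) * n⁻¹)⁻¹ := by simp [mul_assoc]
        _ = k := by rw [hn, inv_inv]
    have : n ^ 2 * (k : L) * (n ^ 2)⁻¹ = k := by
      calc n ^ 2 * (k : L) * (n ^ 2)⁻¹ = n * (n * (k : L) * n⁻¹) * n⁻¹ := by simp [pow_two, mul_assoc]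
        _ = k := by rw [hn, h2]
    exact mul_inv_eq_iff_eq_mul.1 this
  have hnK : n ∉ F.K := fun hnK => by
    obtain ⟨m, hm⟩ := hodd ⟨n, hnK⟩
    have hn1 : (n ^ 2) ^ (m + 1) = n := by
      rw [← pow_mul, show 2 * (m + 1) = (2 * m + 1) + 1 by omega, pow_succ, ← hm,
        pow_orderOf_eq_one, one_mul]
    have hcomm : Commute n (k : L) := hn1 ▸ hsq.pow_left (m + 1)
    have hkk : (k : L) = (k : L)⁻¹ := by
      have e := hcomm.eq
      rw [← mul_inv_eq_iff_eq_mul, hn] at e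
      exact e.symm
    have h2 : orderOf (k : L) ∣ 2 := orderOf_dvd_iff_pow_eq_one.2 (by
      rw [pow_two]
      exact mul_eq_one_iff_eq_inv.2 hkk)
    obtain ⟨m', hm'⟩ := hodd k
    rcases (Nat.dvd_prime Nat.prime_two).1 h2 with h | h
    · exact hkL (orderOf_eq_one_iff.1 h)
    · omega
  have hq : n ^ 2 ∈ F.K := F.centralizer_le (k : L) k.2 hkL
    (Subgroup.mem_centralizer_singleton_iff.2 hsq.eq)
  have hord : orderOf (QuotientGroup.mk' F.K n) = 2 := by
    refine orderOf_eq_prime ?_ ?_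
    · rw [← map_pow]
      exact (QuotientGroup.eq_one_iff _).2 hq
    · exact fun h => hnK ((QuotientGroup.eq_one_iff _).1 h)
  have hd := orderOf_dvd_natCard (QuotientGroup.mk' F.K n)
  rw [hord] at hd
  exact even_iff_two_dvd.2 hd

variable [Fintype G]

open scoped Classical in
/-- The character count when all elements of order `p` of `P` are conjugate to `u`. -/
theorem false_of_facts (hp : p ≠ 2) (hsimple : IsSimpleGroup G) {M : Ideal Cfsg.AlgInt}
    [M.IsPrime] (hab : ∀ a b : F.K, a * b = b * a) {u : G} (hu : u ∈ (P : Subgroup G))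
    (hup : orderOf u = p)
    (hone : ∀ x ∈ (P : Subgroup G), orderOf x = p → IsConj u x)
    (hsum : ∀ g s : G, Cfsg.IsPPart p g s →
      ∑ ξ ∈ members M G, (ξ : G → ℂ) g * conj ((ξ : G → ℂ) u) =
        if IsConj u s then (Nat.card F.K : ℂ) else 0)
    (hfam : (∃ θ ∈ F.linSet, ∃ θ' ∈ F.linSet, Cfsg.indFun F.K (θ : F.K → ℂ) ≠
      Cfsg.indFun F.K (θ' : F.K → ℂ)) → Nonempty (F.Family M F.linSet))
    (hprod : ∀ y : G, IsConj u y →
      (¬ p ∣ orderOf (u * y) ∧ p ∣ orderOf (u * y ^ 2)) ∨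
        ∃ s, Cfsg.IsPPart p (u * y) s ∧ IsConj u s) : False := by
  classical
  set q := Nat.card F.K with hq
  have hp3 : 3 ≤ p := by have := hpf.out.two_le; omega
  have hu1 : u ≠ 1 := fun h => hpf.out.ne_one (by rw [← hup, h, orderOf_one])
  obtain ⟨k₀, hk₀⟩ := F.exists_ι_eq hu
  have hk₀1 : k₀ ≠ 1 := fun h => hu1 (by rw [← hk₀, h, map_one])
  have hordK : ∀ k : F.K, orderOf (F.ι k) = orderOf k := fun k =>
    orderOf_injective F.ι F.ι_injective k
  have hqP : ∀ k : F.K, orderOf k ∣ q := fun k => orderOf_dvd_natCard k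
  have hpq : p ≤ q := by
    refine Nat.le_of_dvd Nat.card_pos ?_
    rw [← hup, ← hk₀, hordK]
    exact hqP k₀
  -- values and degrees
  have hval : ∀ ξ : Cfsg.IrrCharacter G, ∃ z : ℤ, (ξ : G → ℂ) u = z := fun ξ =>
    exists_int_value ξ hup fun x hx hx1 => by
      have hxP : x ∈ (P : Subgroup G) := Subgroup.zpowers_le.2 hu hx
      have hxo : orderOf x = p := by
        rcases (Nat.dvd_prime hpf.out).1 (hup ▸ orderOf_dvd_of_mem_zpowers hx) with h | h
        · exact absurd (orderOf_eq_one_iff.1 h) hx1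
        · exact h
      obtain ⟨g, hg⟩ := isConj_iff.1 (hone x hxP hxo)
      rw [← hg, irr_isClassFunction ξ u g]
  choose c hc using hval
  have hdeg : ∀ ξ : Cfsg.IrrCharacter G, ∃ n : ℕ, 0 < n ∧ (ξ : G → ℂ) 1 = n := fun ξ =>
    IsIrrCharacter.exists_degree ξ.2
  choose d hdpos hd using hdeg
  have hs0 : ∀ g s : G, Cfsg.IsPPart p g s →
      ∑ ξ ∈ members M G, (ξ : G → ℂ) g * (c ξ : ℂ) = if IsConj u s then (q : ℂ) else 0 := by
    intro g s h
    rw [← hsum g s h]
    refine Finset.sum_congr rfl fun ξ _ => ?_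
    rw [hc, map_intCast]
  have hregular : ∀ g : G, ¬ p ∣ orderOf g →
      ∑ ξ ∈ members M G, (ξ : G → ℂ) g * (c ξ : ℂ) = 0 := by
    intro g hg
    rw [hs0 g 1 ⟨g, one_mul g, Commute.one_left g, ⟨0, by rw [orderOf_one, pow_zero]⟩, hg⟩,
      if_neg fun h => hu1 (isConj_one_left.1 h)]
  have hsq : ∑ ξ ∈ members M G, (c ξ : ℂ) * (c ξ : ℂ) = (q : ℂ) := by
    have h := hs0 u u ⟨1, mul_one u, Commute.one_right u, ⟨1, by rw [hup, pow_one]⟩,
      by rw [orderOf_one]; exact hpf.out.not_dvd_one⟩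
    rw [if_pos (IsConj.refl u)] at h
    rw [← h]
    exact Finset.sum_congr rfl fun ξ _ => by rw [hc]
  have hlin : ∑ ξ ∈ members M G, (d ξ : ℂ) * (c ξ : ℂ) = 0 := by
    rw [← hregular 1 (by rw [orderOf_one]; exact hpf.out.not_dvd_one)]
    exact Finset.sum_congr rfl fun ξ _ => by rw [hd]
  -- the principal character
  set B := (members M G).erase (oneIrr G) with hB
  have hone_mem : oneIrr G ∈ members M G := mem_members.2 oneIrr_mem
  have hc1 : c (oneIrr G) = 1 := by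
    have := hc (oneIrr G)
    simp only [coe_oneIrr] at this
    exact_mod_cast this.symm
  have hd1 : d (oneIrr G) = 1 := by
    have := hd (oneIrr G)
    simp only [coe_oneIrr] at this
    exact_mod_cast this.symm
  have hsqR : ∑ ξ ∈ B, (c ξ : ℝ) ^ 2 = (q : ℝ) - 1 := by
    have h : ∑ ξ ∈ members M G, (c ξ : ℝ) ^ 2 = (q : ℝ) := by
      apply Complex.ofReal_injective
      push_cast
      rw [← hsq]
      exact Finset.sum_congr rfl fun ξ _ => sq _
    rw [← Finset.add_sum_erase _ _ hone_mem, hc1] at h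
    push_cast at h
    linarith
  have hlinR : ∑ ξ ∈ B, (c ξ : ℝ) * (d ξ : ℝ) = -1 := by
    have h : ∑ ξ ∈ members M G, (c ξ : ℝ) * (d ξ : ℝ) = 0 := by
      apply Complex.ofReal_injective
      push_cast
      rw [← hlin]
      exact Finset.sum_congr rfl fun ξ _ => mul_comm _ _
    rw [← Finset.add_sum_erase _ _ hone_mem, hc1, hd1] at h
    push_cast at h
    linarith
  have hcsq : ∀ ξ ∈ B, (c ξ : ℝ) ^ 2 ≤ (q : ℝ) - 1 := fun ξ hξ =>
    hsqR ▸ Finset.single_le_sum (f := fun ξ => (c ξ : ℝ) ^ 2) (fun ξ _ => sq_nonneg _) hξ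
  have hq3 : (3 : ℝ) ≤ q := by exact_mod_cast hp3.trans hpq
  have habs : ∀ ξ ∈ B, (c ξ : ℝ) ≤ q := fun ξ hξ => by nlinarith [hcsq ξ hξ]
  -- a multiplicity constant away from the kernel of `k₀` gives a big degree
  have hbig : ∀ ξ ∈ B, ∀ n : ℕ, (ξ : G → ℂ) 1 - (ξ : G → ℂ) u = (n : ℂ) * (q : ℂ) →
      (q : ℝ) ≤ (d ξ : ℝ) - c ξ := by
    intro ξ hξ n h
    have hn : n ≠ 0 := by
      rintro rfl
      rw [Nat.cast_zero, zero_mul, sub_eq_zero] at h
      exact apply_ne_degree hsimple (Finset.ne_of_mem_erase hξ) hu1 h.symm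
    rw [hd, hc] at h
    have h' : (d ξ : ℝ) - c ξ = (n : ℝ) * q := by exact_mod_cast h
    have : (1 : ℝ) ≤ n := by exact_mod_cast Nat.one_le_iff_ne_zero.2 hn
    nlinarith
  -- every nonprincipal member has `2 c ≤ d`
  have hclaim : ∀ ξ ∈ B, 2 * (c ξ : ℝ) ≤ d ξ := by
    by_cases hel : ∀ k : F.K, k ^ p = 1
    · intro ξ hξ
      have hconst : ∀ k : F.K, k ≠ 1 → (ξ : G → ℂ) (F.ι k) = (ξ : G → ℂ) u := fun k hk => by
        have ho : orderOf (F.ι k) = p := by
          rw [hordK]; exact orderOf_eq_prime (hel k) hk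
        obtain ⟨g, hg⟩ := isConj_iff.1 (hone _ (F.ι_mem k) ho)
        rw [← hg, irr_isClassFunction ξ u g]
      obtain ⟨θ, hθ⟩ := exists_apply_ne_one F hab hk₀1
      obtain ⟨n, hn⟩ := exists_nat_mult F θ ξ
      have hne : θ ≠ oneIrr F.K := fun e => hθ (by rw [e, coe_oneIrr])
      have hsumθ : ∑ k : F.K, conj ((θ : F.K → ℂ) k) = 0 := by
        have h0 := classInner_irr_of_ne (G := F.K) hne.symm
        simpa [Cfsg.classInner, coe_oneIrr] using h0
      have key : ∀ k : F.K, F.res (ξ : G → ℂ) k * conj ((θ : F.K → ℂ) k) =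
          (ξ : G → ℂ) u * conj ((θ : F.K → ℂ) k) +
            if k = 1 then (ξ : G → ℂ) 1 - (ξ : G → ℂ) u else 0 := by
        intro k
        show (ξ : G → ℂ) (F.ι k) * _ = _
        by_cases hk : k = 1
        · rw [if_pos hk, hk, map_one, apply_one_eq_one F hab θ, map_one]
          ring
        · rw [if_neg hk, hconst k hk, add_zero]
      rw [Frame.mult, Cfsg.classInner, Finset.sum_congr rfl fun k _ => key k,
        Finset.sum_add_distrib, ← Finset.mul_sum, hsumθ, mul_zero, zero_add,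
        Finset.sum_ite_eq', if_pos (Finset.mem_univ _),
        inv_mul_eq_iff_eq_mul₀ (Nat.cast_ne_zero.2 Nat.card_pos.ne'), mul_comm] at hn
      linarith [hbig ξ hξ n hn, habs ξ hξ]
    · push Not at hel
      obtain ⟨k, hk⟩ := hel
      obtain ⟨θ₀, hθ₀⟩ := exists_apply_ne_one F hab hk
      obtain ⟨f, hf⟩ := exists_hom F hab θ₀
      let θ₁ : Cfsg.IrrCharacter F.K := ⟨_, isIrrCharacter_hom (f ^ p)⟩
      have hθ₁k : (θ₁ : F.K → ℂ) k ≠ 1 := by
        have e : (θ₁ : F.K → ℂ) k = (θ₀ : F.K → ℂ) (k ^ p) := by simp [θ₁, hf]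
        rwa [e]
      have hθ₁z : ∀ z : F.K, (∃ x : L, x⁻¹ * (k₀ : L) * x = z) → (θ₁ : F.K → ℂ) z = 1 := by
        rintro z ⟨x, hx⟩
        have hk0p : k₀ ^ p = 1 := by
          refine orderOf_dvd_iff_pow_eq_one.1 ?_
          rw [← hordK, hk₀, hup]
        have hz : z ^ p = 1 := by
          refine Subtype.ext ?_
          rw [SubmonoidClass.coe_pow, ← hx, show x⁻¹ * (k₀ : L) * x = x⁻¹ * (k₀ : L) * x⁻¹⁻¹ by
            group, conj_pow, ← SubmonoidClass.coe_pow, hk0p]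
          simp
        have e : (θ₁ : F.K → ℂ) z = ((f (z ^ p) : ℂˣ) : ℂ) := by simp [θ₁]
        rw [e, hz, map_one, Units.val_one]
      have hθ₁S : θ₁ ∈ F.linSet := mem_linSet_of_apply_ne_one F hab hθ₁k
      have hY : ∀ θ : Cfsg.IrrCharacter F.K, (θ : F.K → ℂ) k₀ ≠ 1 →
          Cfsg.indFun F.K (θ : F.K → ℂ) ≠ Cfsg.indFun F.K (θ₁ : F.K → ℂ) := fun θ hθ h =>
        hθ (apply_eq_one_of_indFun_eq F hab hθ₁z h)
      obtain ⟨θ', hθ'⟩ := exists_apply_ne_one F hab hk₀1
      have hθ'S : θ' ∈ F.linSet := mem_linSet_of_apply_ne_one F hab hθ'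
      obtain ⟨Fam⟩ := hfam ⟨θ', hθ'S, θ₁, hθ₁S, hY θ' hθ'⟩
      have hfar : ∀ ξ ∈ B, (∀ θ : Cfsg.IrrCharacter F.K, (θ : F.K → ℂ) k₀ ≠ 1 → Fam.chi θ ≠ ξ) →
          (q : ℝ) ≤ (d ξ : ℝ) - c ξ := by
        intro ξ hξ hno
        obtain ⟨n, hn⟩ := exists_nat_mult F θ' ξ
        refine hbig ξ hξ n ?_
        rw [← hk₀]
        refine degree_sub_value F hab ξ hk₀1 fun θ hθ => ?_
        have h := Fam.rel θ (mem_linSet_of_apply_ne_one F hab hθ) θ' hθ'S ξ (Finset.mem_of_mem_erase hξ)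
        rw [if_neg fun e => hno θ hθ e.symm, if_neg fun e => hno θ' hθ' e.symm,
          apply_one_eq_one F hab θ, apply_one_eq_one F hab θ'] at h
        simp only [mul_zero, sub_zero, one_mul, hn] at h
        exact sub_eq_zero.1 h
      have hξ₁B : Fam.chi θ₁ ∈ B :=
        Finset.mem_erase.2 ⟨Fam.ne_one θ₁ hθ₁S, Fam.mem θ₁ hθ₁S⟩
      have hfar₁ := hfar _ hξ₁B fun θ hθ e =>
        hY θ hθ ((Fam.inj θ (mem_linSet_of_apply_ne_one F hab hθ) θ₁ hθ₁S).1 e)
      have hq9 : (9 : ℝ) ≤ q := by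
        obtain ⟨j, hj⟩ := IsPGroup.iff_orderOf.1 P.2 (F.iso k)
        rw [MulEquiv.orderOf_eq] at hj
        have hj2 : 2 ≤ j := by
          by_contra hlt
          refine hk (orderOf_dvd_iff_pow_eq_one.1 ?_)
          rw [hj]
          calc p ^ j ∣ p ^ 1 := pow_dvd_pow p (by omega)
            _ = p := pow_one p
        have h9 : 9 ≤ q := by
          calc 9 ≤ p ^ 2 := by nlinarith
            _ ≤ p ^ j := Nat.pow_le_pow_right (by omega) hj2
            _ ≤ q := Nat.le_of_dvd Nat.card_pos (hj ▸ hqP k)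
        exact_mod_cast h9
      intro ξ hξ
      by_cases hno : ∀ θ : Cfsg.IrrCharacter F.K, (θ : F.K → ℂ) k₀ ≠ 1 → Fam.chi θ ≠ ξ
      · linarith [hfar ξ hξ hno, habs ξ hξ]
      · push Not at hno
        obtain ⟨θ, hθ, he⟩ := hno
        have hdd : (d ξ : ℝ) = d (Fam.chi θ₁) := by
          have h := Fam.deg θ (mem_linSet_of_apply_ne_one F hab hθ) θ₁ hθ₁S
          rw [apply_one_eq_one F hab θ, apply_one_eq_one F hab θ₁, one_mul, one_mul, he, hd, hd]
            at h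
          exact_mod_cast h
        have h1 := hcsq ξ hξ
        have h2 := hcsq _ hξ₁B
        nlinarith [sq_nonneg (2 * (c ξ : ℝ) + 4 * (c (Fam.chi θ₁) : ℝ))]
  -- the average over the class
  let A := Finset.univ.filter fun g : G => ¬ p ∣ orderOf (u * (g⁻¹ * u * g))
  have hAval : ∀ g : G, ∑ ξ ∈ members M G, (ξ : G → ℂ) (u * (g⁻¹ * u * g)) * (c ξ : ℂ) =
      if g ∈ A then 0 else (q : ℂ) := by
    intro g
    by_cases hg : g ∈ A
    · rw [if_pos hg, hregular _ (Finset.mem_filter.1 hg).2]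
    · rw [if_neg hg]
      rcases hprod _ (isConj_iff.2 ⟨g⁻¹, by rw [inv_inv]⟩) with ⟨h, -⟩ | ⟨s, hs, hus⟩
      · exact absurd (show g ∈ A from Finset.mem_filter.2 ⟨Finset.mem_univ _, h⟩) hg
      · rw [hs0 _ s hs, if_pos hus]
  have hu2 : orderOf (u ^ 2) = p := by
    refine orderOf_eq_prime ?_ fun h => ?_
    · rw [← pow_mul, mul_comm, pow_mul, ← hup, pow_orderOf_eq_one, one_pow]
    · have h' := Nat.le_of_dvd two_pos (hup ▸ orderOf_dvd_iff_pow_eq_one.2 h)
      omega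
  obtain ⟨w, hw⟩ := isConj_iff.1 (hone _ (pow_mem hu 2) hu2)
  have hA : 2 * A.card ≤ Fintype.card G := by
    let A' := A.map (Equiv.mulLeft w⁻¹).toEmbedding
    have hdisj : Disjoint A A' := by
      rw [Finset.disjoint_left]
      intro x hx hx'
      obtain ⟨g, hg, rfl⟩ := Finset.mem_map.1 hx'
      rcases hprod _ (isConj_iff.2 ⟨g⁻¹, by rw [inv_inv]⟩ : IsConj u (g⁻¹ * u * g)) with
        ⟨-, h2⟩ | ⟨s, ⟨y, hy, hcy, ⟨j, hj⟩, hyp⟩, hus⟩
      · refine (Finset.mem_filter.1 hx).2 ?_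
        have e : (Equiv.mulLeft w⁻¹ g)⁻¹ * u * Equiv.mulLeft w⁻¹ g = (g⁻¹ * u * g) ^ 2 := by
          have h3 : (g⁻¹ * u * g) ^ 2 = g⁻¹ * u ^ 2 * g := by simp [pow_two, mul_assoc]
          rw [h3, ← hw, Equiv.coe_mulLeft]
          group
        rw [show (Equiv.mulLeft w⁻¹).toEmbedding g = Equiv.mulLeft w⁻¹ g from rfl, e]
        exact h2
      · refine (Finset.mem_filter.1 hg).2 ?_
        have hcop : Nat.Coprime (orderOf s) (orderOf y) := by
          rw [hj]; exact Nat.Coprime.pow_left _ (hpf.out.coprime_iff_not_dvd.2 hyp)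
        rw [← hy, hcy.orderOf_mul_eq_mul_orderOf_of_coprime hcop]
        refine dvd_mul_of_dvd_left ?_ _
        obtain ⟨g', hg'⟩ := isConj_iff.1 hus
        rw [← hg', ← MulAut.conj_apply, MulEquiv.orderOf_eq, hup]
    have := Finset.card_le_univ (A.disjUnion A' hdisj)
    rw [Finset.card_disjUnion, Finset.card_map] at this
    omega
  have havg : (Fintype.card G : ℂ) * ∑ ξ ∈ members M G, (c ξ : ℂ) ^ 3 / (d ξ : ℂ) =
      (q : ℂ) * ((Fintype.card G : ℂ) - A.card) := by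
    have h1 : ∀ ξ : Cfsg.IrrCharacter G, (∑ g : G, (ξ : G → ℂ) (u * (g⁻¹ * u * g))) * (c ξ : ℂ) =
        (Fintype.card G : ℂ) * ((c ξ : ℂ) ^ 3 / (d ξ : ℂ)) := by
      intro ξ
      have e : ∀ g : G, (ξ : G → ℂ) (u * (g⁻¹ * u * g)) = (ξ : G → ℂ) (g⁻¹ * u * g * u) := by
        intro g
        rw [← irr_isClassFunction ξ (g⁻¹ * u * g * u) u]
        congr 1
        group
      rw [Finset.sum_congr rfl fun g _ => e g, BlocksCore.sum_char_conj_mul ξ u u, hc, hd,
        Nat.card_eq_fintype_card]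
      ring
    rw [Finset.mul_sum, ← Finset.sum_congr rfl fun ξ _ => h1 ξ]
    simp only [Finset.sum_mul]
    rw [Finset.sum_comm, Finset.sum_congr rfl fun g _ => hAval g, Finset.sum_ite]
    simp only [Finset.sum_const_zero, zero_add, Finset.sum_const, nsmul_eq_mul]
    have hcompl : (Finset.univ.filter fun g : G => g ∉ A) = Aᶜ := by ext g; simp
    rw [hcompl, Finset.card_compl, Nat.cast_sub (Finset.card_le_univ A)]
    ring
  have hcube : (q : ℝ) / 2 - 1 ≤ ∑ ξ ∈ B, (c ξ : ℝ) ^ 3 / (d ξ : ℝ) := by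
    have h : (Fintype.card G : ℝ) * ∑ ξ ∈ members M G, (c ξ : ℝ) ^ 3 / (d ξ : ℝ) =
        (q : ℝ) * ((Fintype.card G : ℝ) - A.card) := by
      apply Complex.ofReal_injective
      push_cast
      exact havg
    rw [← Finset.add_sum_erase _ _ hone_mem, hc1, hd1] at h
    push_cast at h
    have hG : (0 : ℝ) < (Fintype.card G : ℝ) := by exact_mod_cast Fintype.card_pos
    have hA' : 2 * (A.card : ℝ) ≤ Fintype.card G := by exact_mod_cast hA
    nlinarith
  exact count_contradiction B q c d (fun ξ _ => hdpos ξ) hsqR hlinR hclaim hcube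

end Cfsg.Agent.PComp40.OddB
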