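import Cfsg.Agent.PComp40.Defs
import Cfsg.Agent.Lib.CharCore.Complete
import Cfsg.Agent.Lib.CharCore.Linear
import Cfsg.Agent.Lib.CharClifford.Central
import Cfsg.Agent.Lib.CharClifford.Galois
import Cfsg.Agent.Lib.CharInd.Basic

/-!
# S3297, one class of central elements of order `p`: character tools

Characters of an abelian kernel of a frame, integrality of a rational-valued character on an
element of prime order, and the final real inequality.
-/

set_option autoImplicit false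
set_option linter.unusedSectionVars false

namespace Cfsg.Agent.PComp40.OddB

open scoped ComplexConjugate
open Cfsg.Agent.CharCore BlocksDefect

universe u

/-- The final inequality: squares sum to `q - 1`, weighted sum `-1`, every value at most half the
degree, but the cubic sum is at least `q / 2 - 1`. -/
theorem count_contradiction {ι : Type*} (s : Finset ι) (q : ℝ) (c : ι → ℤ) (d : ι → ℕ)
    (hd : ∀ i ∈ s, 0 < d i) (h2 : ∑ i ∈ s, (c i : ℝ) ^ 2 = q - 1)
    (h1 : ∑ i ∈ s, (c i : ℝ) * d i = -1) (hle : ∀ i ∈ s, 2 * (c i : ℝ) ≤ d i)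
    (h3 : q / 2 - 1 ≤ ∑ i ∈ s, (c i : ℝ) ^ 3 / d i) : False := by
  classical
  obtain ⟨j, hj, hneg⟩ : ∃ j ∈ s, c j < 0 := by
    by_contra hc
    push Not at hc
    have : (0 : ℝ) ≤ ∑ i ∈ s, (c i : ℝ) * d i :=
      Finset.sum_nonneg fun i hi => mul_nonneg (by exact_mod_cast hc i hi) (Nat.cast_nonneg _)
    linarith
  have hle' : ∀ i ∈ s, (c i : ℝ) ^ 3 / d i ≤ (c i : ℝ) ^ 2 / 2 := fun i hi => by
    rw [div_le_iff₀ (by exact_mod_cast hd i hi)]
    nlinarith [mul_le_mul_of_nonneg_left (hle i hi) (sq_nonneg (c i : ℝ))]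
  have hj1 : (c j : ℝ) ≤ -1 := by
    have : c j ≤ -1 := by omega
    exact_mod_cast this
  have hjneg : (c j : ℝ) ^ 3 / d j < 0 :=
    div_neg_of_neg_of_pos (Odd.pow_neg ⟨1, rfl⟩ (by linarith)) (by exact_mod_cast hd j hj)
  have hjsq : 1 ≤ (c j : ℝ) ^ 2 := by nlinarith
  have hsplit := Finset.add_sum_erase s (fun i => (c i : ℝ) ^ 3 / d i) hj
  have hsplit2 := Finset.add_sum_erase s (fun i => (c i : ℝ) ^ 2 / 2) hj
  have hrest : ∑ i ∈ s.erase j, (c i : ℝ) ^ 3 / d i ≤ ∑ i ∈ s.erase j, (c i : ℝ) ^ 2 / 2 :=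
    Finset.sum_le_sum fun i hi => hle' i (Finset.mem_of_mem_erase hi)
  rw [← Finset.sum_div, ← Finset.sum_div, h2] at hsplit2
  rw [← Finset.sum_div] at hrest
  linarith

variable {G : Type u} [Group G] [Fintype G] {p : ℕ} [hpf : Fact p.Prime]

/-- A character constant on the nontrivial powers of an element of order `p` is an integer
there. -/
theorem exists_int_value (ξ : Cfsg.IrrCharacter G) {u : G} (hu : orderOf u = p)
    (hconj : ∀ x ∈ Subgroup.zpowers u, x ≠ 1 → (ξ : G → ℂ) x = (ξ : G → ℂ) u) :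
    ∃ z : ℤ, (ξ : G → ℂ) u = z := by
  classical
  set H := Subgroup.zpowers u with hH
  have hcard : Fintype.card H = p := by
    rw [← Nat.card_eq_fintype_card, Nat.card_zpowers, hu]
  obtain ⟨m, hm⟩ := IsCharacter.exists_classInner_irr_eq_natCast
    (isCharacter_restrict (irr_isCharacter ξ) H) ⟨_, isIrrCharacter_one⟩
  obtain ⟨d, hd⟩ := IsCharacter.exists_degree (irr_isCharacter ξ)
  have hsum : ∑ h : H, (ξ : G → ℂ) h = (d : ℂ) + ((p : ℂ) - 1) * (ξ : G → ℂ) u := by
    rw [← Finset.add_sum_erase _ _ (Finset.mem_univ (1 : H)), Subgroup.coe_one, hd]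
    rw [Finset.sum_congr rfl (g := fun _ => (ξ : G → ℂ) u) fun (h : H) hh => hconj h h.2 fun e =>
      Finset.ne_of_mem_erase hh (Subtype.ext e), Finset.sum_const,
      Finset.card_erase_of_mem (Finset.mem_univ _), Finset.card_univ, hcard, nsmul_eq_mul,
      Nat.cast_sub hpf.out.pos, Nat.cast_one]
  have hm' : ∑ h : H, (ξ : G → ℂ) h = (p : ℂ) * m := by
    rw [← hm, Cfsg.classInner, Nat.card_eq_fintype_card, hcard, ← mul_assoc,
      mul_inv_cancel₀ (Nat.cast_ne_zero.2 hpf.out.ne_zero), one_mul]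
    simp
  have hp1 : (p : ℂ) - 1 ≠ 0 := sub_ne_zero.2 (by exact_mod_cast hpf.out.ne_one)
  have hval : (ξ : G → ℂ) u = ((((p : ℚ) * m - d) / ((p : ℚ) - 1) : ℚ) : ℂ) := by
    push_cast
    rw [eq_div_iff hp1, ← hm', hsum]
    ring
  obtain ⟨z, hz⟩ := CharClifford.exists_int_of_isIntegral_rat
    (hval ▸ IsCharacter.isIntegral (irr_isCharacter ξ) u)
  exact ⟨z, by rw [hval, hz]; simp⟩

/-- In a simple group only the principal character takes its degree away from the identity. -/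
theorem apply_ne_degree (hsimple : IsSimpleGroup G) {ξ : Cfsg.IrrCharacter G} (hξ : ξ ≠ oneIrr G)
    {g : G} (hg : g ≠ 1) : (ξ : G → ℂ) g ≠ (ξ : G → ℂ) 1 := by
  intro heq
  rcases hsimple.eq_bot_or_eq_top_of_normal (charKernel (irr_isCharacter ξ))
    (charKernel_normal (irr_isCharacter ξ)) with h | h
  · have hmem : g ∈ charKernel (irr_isCharacter ξ) := heq
    rw [h, Subgroup.mem_bot] at hmem
    exact hg hmem
  · have hall : ∀ x : G, (ξ : G → ℂ) x = (ξ : G → ℂ) 1 := fun x =>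
      (mem_charKernel (irr_isCharacter ξ) x).1 (h ▸ Subgroup.mem_top x)
    have h0 := classInner_irr_of_ne (G := G) hξ
    simp [Cfsg.classInner, coe_oneIrr, hall, irr_apply_one_ne_zero ξ] at h0

variable {P : Sylow p G} {L : Type u} [Group L] [Fintype L] (F : Frame P L)

/-- Restricted characters have natural multiplicities. -/
theorem exists_nat_mult (θ : Cfsg.IrrCharacter F.K) (ξ : Cfsg.IrrCharacter G) :
    ∃ n : ℕ, F.mult (θ : F.K → ℂ) (ξ : G → ℂ) = n :=
  IsCharacter.exists_classInner_irr_eq_natCast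
    (isCharacter_comp (irr_isCharacter ξ) F.ι) θ

/-- The restriction to the kernel is the combination given by the multiplicities. -/
theorem res_eq_sum (ξ : Cfsg.IrrCharacter G) (k : F.K) :
    (ξ : G → ℂ) (F.ι k) =
      ∑ θ : Cfsg.IrrCharacter F.K, F.mult (θ : F.K → ℂ) (ξ : G → ℂ) * (θ : F.K → ℂ) k := by
  have h := congrFun (IsCharacter.eq_sum_classInner (isCharacter_comp (irr_isCharacter ξ) F.ι)) k
  have e : F.res (ξ : G → ℂ) = fun k => (ξ : G → ℂ) (F.ι k) := rfl
  simpa [Finset.sum_apply, Frame.mult, e] using h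

variable (hab : ∀ a b : F.K, a * b = b * a)

include hab in
theorem apply_one_eq_one (θ : Cfsg.IrrCharacter F.K) : (θ : F.K → ℂ) 1 = 1 := by
  obtain ⟨d, -, hd, hd1⟩ := CharClifford.exists_degree_dvd_index_center θ.2
  have htop : Subgroup.center F.K = ⊤ :=
    eq_top_iff.2 fun x _ => Subgroup.mem_center_iff.2 fun y => hab y x
  rw [htop, Subgroup.index_top, Nat.dvd_one] at hd
  rw [hd1, hd, Nat.cast_one]

include hab in
theorem exists_hom (θ : Cfsg.IrrCharacter F.K) :
    ∃ f : F.K →* ℂˣ, (θ : F.K → ℂ) = fun k => (f k : ℂ) :=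
  IsCharacter.exists_hom_of_degree_one (irr_isCharacter θ) (apply_one_eq_one F hab θ)

include hab in
theorem card_irr_kernel :
    ∑ _θ : Cfsg.IrrCharacter F.K, (1 : ℂ) = (Nat.card F.K : ℂ) := by
  rw [← sum_degree_sq (G := F.K)]
  exact Finset.sum_congr rfl fun θ _ => by rw [apply_one_eq_one F hab θ, one_pow]

include hab in
theorem sum_apply_eq_zero {k : F.K} (hk : k ≠ 1) :
    ∑ θ : Cfsg.IrrCharacter F.K, (θ : F.K → ℂ) k = 0 := by
  classical
  have h := sum_degree_mul_apply (G := F.K) k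
  rw [if_neg hk] at h
  rw [← h]
  exact Finset.sum_congr rfl fun θ _ => by rw [apply_one_eq_one F hab θ, one_mul]

include hab in
/-- Some linear character is nontrivial at a given nontrivial element. -/
theorem exists_apply_ne_one {k : F.K} (hk : k ≠ 1) :
    ∃ θ : Cfsg.IrrCharacter F.K, (θ : F.K → ℂ) k ≠ 1 := by
  by_contra hc
  push Not at hc
  have h := sum_apply_eq_zero F hab hk
  simp only [hc] at h
  rw [card_irr_kernel F hab] at h
  exact Nat.cast_ne_zero.2 Nat.card_pos.ne' h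

include hab in
theorem mem_linSet_of_apply_ne_one {θ : Cfsg.IrrCharacter F.K} {k : F.K}
    (hθ : (θ : F.K → ℂ) k ≠ 1) : θ ∈ F.linSet :=
  ⟨apply_one_eq_one F hab θ, fun h => hθ (congrFun h k)⟩

include hab in
/-- If the multiplicity is `a` at every character nontrivial at `k`, the degree minus the value at
`k` is `a` times the order of the kernel. -/
theorem degree_sub_value (ξ : Cfsg.IrrCharacter G) {k : F.K} (hk : k ≠ 1) {a : ℂ}
    (ha : ∀ θ : Cfsg.IrrCharacter F.K, (θ : F.K → ℂ) k ≠ 1 →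
      F.mult (θ : F.K → ℂ) (ξ : G → ℂ) = a) :
    (ξ : G → ℂ) 1 - (ξ : G → ℂ) (F.ι k) = a * (Nat.card F.K : ℂ) := by
  have h1 := res_eq_sum F ξ 1
  rw [map_one] at h1
  rw [h1, res_eq_sum F ξ k, ← Finset.sum_sub_distrib]
  calc _ = ∑ θ : Cfsg.IrrCharacter F.K, (a * 1 - a * (θ : F.K → ℂ) k) := by
        refine Finset.sum_congr rfl fun θ _ => ?_
        rw [apply_one_eq_one F hab θ]
        by_cases hθ : (θ : F.K → ℂ) k = 1
        · rw [hθ, sub_self, sub_self]
        · rw [ha θ hθ]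
    _ = _ := by
        rw [Finset.sum_sub_distrib, ← Finset.mul_sum, ← Finset.mul_sum, card_irr_kernel F hab,
          sum_apply_eq_zero F hab hk, mul_zero, sub_zero]

include hab in
/-- A linear character inducing the same as one trivial on the conjugates of `k` is trivial
at `k`. -/
theorem apply_eq_one_of_indFun_eq {θ θ₁ : Cfsg.IrrCharacter F.K} {k : F.K}
    (h₁ : ∀ z : F.K, (∃ x : L, x⁻¹ * (k : L) * x = z) → (θ₁ : F.K → ℂ) z = 1)
    (hind : Cfsg.indFun F.K (θ : F.K → ℂ) = Cfsg.indFun F.K (θ₁ : F.K → ℂ)) :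
    (θ : F.K → ℂ) k = 1 := by
  obtain ⟨f, hf⟩ := exists_hom F hab θ
  have hmem : ∀ x : L, x⁻¹ * (k : L) * x ∈ F.K := fun x => by
    simpa using F.normal.conj_mem (k : L) k.2 x⁻¹
  have h := congrFun hind (k : L)
  rw [CharInd.indFun_apply, CharInd.indFun_apply,
    mul_right_inj' (inv_ne_zero (CharInd.natCard_subgroup_ne_zero F.K))] at h
  have h' : ∑ x : L, ((f ⟨_, hmem x⟩ : ℂˣ) : ℂ).re = ∑ _x : L, (1 : ℝ) := by
    have := congrArg Complex.re h
    rw [Complex.re_sum, Complex.re_sum] at this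
    simp only [CharInd.extendByZero_mem _ (hmem _)] at this
    rw [hf] at this
    have hθ₁ : ∀ x : L, (θ₁ : F.K → ℂ) ⟨_, hmem x⟩ = 1 := fun x => h₁ ⟨_, hmem x⟩ ⟨x, rfl⟩
    simpa only [hθ₁, Complex.one_re] using this
  have hle : ∀ x ∈ (Finset.univ : Finset L), ((f ⟨_, hmem x⟩ : ℂˣ) : ℂ).re ≤ 1 := fun x _ =>
    (Complex.re_le_norm _).trans_eq (norm_hom_apply f _)
  have hre : ((f ⟨_, hmem 1⟩ : ℂˣ) : ℂ).re = 1 :=
    (Finset.sum_eq_sum_iff_of_le hle).1 h' 1 (Finset.mem_univ _)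
  have e : (⟨_, hmem 1⟩ : F.K) = k := Subtype.ext (by simp)
  rw [e] at hre
  have hn := norm_hom_apply f k
  rw [hf]
  refine Complex.ext (by simpa using hre) ?_
  have hsq := Complex.normSq_eq_norm_sq ((f k : ℂˣ) : ℂ)
  rw [hn, Complex.normSq_apply, hre] at hsq
  simp only [Complex.one_im]
  nlinarith

end Cfsg.Agent.PComp40.OddB
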